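import Cfsg.Agent.H725.Cov.SevTool
import Cfsg.Agent.H14.Tor.FactsHe
import Cfsg.Agent.H492.IMHe

/-!
# S2499, the Held group: the elements of order 7 (helper725)
-/

set_option autoImplicit false
set_option maxRecDepth 100000

namespace Cfsg.Agent.H725.CovHe

open Subgroup Cfsg
open Cfsg.Spor.He (Gen)
open Cfsg.Agent.SporadicB.HePerm (act wd)
open Cfsg.Agent.FixBN.HeStab Cfsg.Agent.KFacts.He.Lv Cfsg.Agent.CpAutHe.Cnt Cfsg.Agent.CpAutHe.Bound
open Cfsg.Agent.CpAutHe.Seven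
open Cfsg.Agent.KFacts.He.TwoACent (L)
open Cfsg.Agent.H492.IMHe (dvd_cent oz73 o4 Z73)
open Cfsg.Agent.H492.IMHeCnt (comm_of_chk)

/-- elements of order `p` generating conjugate subgroups -/
theorem card_cent_eq {G : Type*} [Group G] [Finite G] {p : ℕ} {x y u : G} (hx : orderOf x = p)
    (hy : orderOf y = p) (hu : u * x * u⁻¹ ∈ zpowers y) :
    Nat.card (centralizer ({x} : Set G)) = Nat.card (centralizer ({y} : Set G)) := by
  apply le_antisymm (card_cent_le hx hy hu)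
  have h1 : y ∈ zpowers (u * x * u⁻¹) := by
    have h2 : zpowers (u * x * u⁻¹) = zpowers y := by
      apply Subgroup.eq_of_le_of_card_ge
      · rwa [zpowers_le]
      · rw [Nat.card_zpowers, Nat.card_zpowers, orderOf_conj', hx, hy]
    rw [h2]
    exact mem_zpowers y
  obtain ⟨n, hn⟩ := mem_zpowers_iff.1 h1
  refine card_cent_le hy hx (u := u⁻¹) ⟨n, ?_⟩
  show x ^ n = u⁻¹ * y * u⁻¹⁻¹
  rw [← hn, conj_zpow]
  group

theorem finHe : Finite Cfsg.Spor.He := Cfsg.Agent.H436.HeFive.finite_he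

theorem eq_a {x : Cfsg.Spor.He} (hx : orderOf x = 7) (ha : x * gn .a = gn .a * x) :
    Nat.card ↥(centralizer ({x} : Set Cfsg.Spor.He)) = Nat.card ↥(centralizer ({x0} : Set Cfsg.Spor.He)) := by
  have h7 : Fact (Nat.Prime 7) := ⟨by norm_num⟩
  have := finHe
  have hxL := mem_L_of_order (by rw [← hx, pow_orderOf_eq_one]) ha
  obtain ⟨g, hg⟩ := CpAutON.Gen.conj_into (G := L) (p := 7) (by rw [card_L]; norm_num)
    (x := ⟨x, hxL⟩) (y := ⟨x0, x0_mem⟩) (by rw [← Subgroup.orderOf_coe]; exact hx)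
    (by rw [← Subgroup.orderOf_coe]; exact order0)
  obtain ⟨n, hn⟩ := mem_zpowers_iff.1 hg
  have hn' : x0 ^ n = (g : Cfsg.Spor.He) * x * (g : Cfsg.Spor.He)⁻¹ := congrArg Subtype.val hn
  refine card_cent_eq hx order0 (u := (g : Cfsg.Spor.He)) ?_
  rw [← hn']
  exact zpow_mem (mem_zpowers x0) n

theorem eq_d {x : Cfsg.Spor.He} (hx : orderOf x = 7) (hd : x * wd T1 = wd T1 * x) :
    Nat.card ↥(centralizer ({x} : Set Cfsg.Spor.He)) = Nat.card ↥(centralizer ({x1} : Set Cfsg.Spor.He)) := by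
  have h7 : Fact (Nat.Prime 7) := ⟨by norm_num⟩
  have := finHe
  obtain ⟨g, hg⟩ := CpAutON.Gen.conj_into (G := ↥(centralizer ({wd T1} : Set Cfsg.Spor.He))) (p := 7)
    (by rw [card_t1]; norm_num)
    (x := ⟨x, mem_centralizer_singleton_iff.2 hd⟩) (y := ⟨x1, mem_centralizer_singleton_iff.2 x1_comm⟩)
    (by rw [← Subgroup.orderOf_coe]; exact hx) (by rw [← Subgroup.orderOf_coe]; exact order1)
  obtain ⟨n, hn⟩ := mem_zpowers_iff.1 hg
  have hn' : x1 ^ n = (g : Cfsg.Spor.He) * x * (g : Cfsg.Spor.He)⁻¹ := congrArg Subtype.val hn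
  refine card_cent_eq hx order1 (u := (g : Cfsg.Spor.He)) ?_
  rw [← hn']
  exact zpow_mem (mem_zpowers x1) n

/-- the centralizers of even order -/
theorem even_cases {x : Cfsg.Spor.He} (hx : orderOf x = 7)
    (he : ¬ Odd (Nat.card ↥(centralizer ({x} : Set Cfsg.Spor.He)))) :
    Nat.card ↥(centralizer ({x} : Set Cfsg.Spor.He)) = Nat.card ↥(centralizer ({x0} : Set Cfsg.Spor.He)) ∨
    Nat.card ↥(centralizer ({x} : Set Cfsg.Spor.He)) = Nat.card ↥(centralizer ({x1} : Set Cfsg.Spor.He)) := by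
  have h2 : Fact (Nat.Prime 2) := ⟨Nat.prime_two⟩
  have := finHe
  rw [Nat.not_odd_iff_even, even_iff_two_dvd] at he
  obtain ⟨t, ht⟩ := exists_prime_orderOf_dvd_card' 2 he
  have hto : orderOf (t : Cfsg.Spor.He) = 2 := by rw [Subgroup.orderOf_coe, ht]
  have htx : (t : Cfsg.Spor.He) * x = x * t := mem_centralizer_singleton_iff.1 t.2
  have htt : (t : Cfsg.Spor.He) * t = 1 := by rw [← pow_two, ← hto, pow_orderOf_eq_one]
  have ht1 : (t : Cfsg.Spor.He) ≠ 1 := by
    intro h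
    rw [h, orderOf_one] at hto
    omega
  -- conjugation
  have key : ∀ (r g : Cfsg.Spor.He), g * r * g⁻¹ = t →
      (g⁻¹ * x * g⁻¹⁻¹) * r = r * (g⁻¹ * x * g⁻¹⁻¹) ∧
      Nat.card ↥(centralizer ({g⁻¹ * x * g⁻¹⁻¹} : Set Cfsg.Spor.He)) =
        Nat.card ↥(centralizer ({x} : Set Cfsg.Spor.He)) ∧ orderOf (g⁻¹ * x * g⁻¹⁻¹) = 7 := by
    intro r g hg
    refine ⟨?_, card_cent_conj _ _, by rw [orderOf_conj', hx]⟩
    have h3 := comm_conj (u := g⁻¹) htx.symm
    have e : g⁻¹ * (t : Cfsg.Spor.He) * g⁻¹⁻¹ = r := by rw [← hg]; group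
    rw [e] at h3
    exact h3
  rcases Cfsg.Agent.KFacts.He.Classes.two_classes_ad htt ht1 with ⟨g, hg⟩ | ⟨g, hg⟩
  · have hg' : (g * (wd gw)⁻¹) * wd T1 * (g * (wd gw)⁻¹)⁻¹ = t := by
      rw [← t1_conj, ← hg]
      change _ = g * gn .d * g⁻¹
      group
    obtain ⟨h3, h4, h5⟩ := key _ _ hg'
    rw [← h4]
    exact Or.inr (eq_d h5 h3)
  · obtain ⟨h3, h4, h5⟩ := key _ _ hg
    rw [← h4]
    exact Or.inl (eq_a h5 h3)

theorem twelve : 12 ∣ Nat.card (centralizer ({x0} : Set Cfsg.Spor.He)) := by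
  have := finHe
  have h3 : 3 ∣ Nat.card (centralizer ({wd X0} : Set Cfsg.Spor.He)) :=
    dvd_cent (comm_of_chk (by decide +kernel)) oz73
  have h4 : 4 ∣ Nat.card (centralizer ({wd X0} : Set Cfsg.Spor.He)) :=
    dvd_cent (comm_of_chk (by decide +kernel)) o4
  exact Nat.Coprime.mul_dvd_of_dvd_of_dvd (by norm_num : Nat.Coprime 3 4) h3 h4

theorem two_x1 : 2 ∣ Nat.card (centralizer ({x1} : Set Cfsg.Spor.He)) := by
  have := finHe
  have h1 : wd T1 ≠ 1 := by
    intro h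
    have h2 := card_t1
    rw [h] at h2
    have h3 : centralizer ({(1 : Cfsg.Spor.He)} : Set Cfsg.Spor.He) = ⊤ := by
      rw [eq_top_iff]
      intro g _
      rw [mem_centralizer_singleton_iff, one_mul, mul_one]
    rw [h3, Subgroup.card_top, card_he] at h2
    norm_num at h2
  have h2 : orderOf (wd T1) = 2 := by
    rw [← t1_conj, orderOf_conj']
    refine orderOf_eq_prime (by
      rw [pow_two]
      exact Cfsg.Agent.KFacts.He.TwoACent.gn_mul_self _) ?_
    intro h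
    apply h1
    rw [← t1_conj, h]
    group
  exact dvd_cent x1_comm.symm h2

theorem card_seven {x : Cfsg.Spor.He} (hx : orderOf x = 7) :
    49 ∣ Nat.card (centralizer ({x} : Set Cfsg.Spor.He)) := by
  have h7 : Fact (Nat.Prime 7) := ⟨by norm_num⟩
  have := finHe
  have h4 : ¬ 7 ^ 4 ∣ Nat.card Cfsg.Spor.He := by rw [card_he]; norm_num
  have h0 : ¬ 7 ^ 3 ∣ Nat.card (centralizer ({x0} : Set Cfsg.Spor.He)) := by
    intro h
    have h5 : 12 * 7 ^ 3 ∣ Nat.card (centralizer ({x0} : Set Cfsg.Spor.He)) :=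
      Nat.Coprime.mul_dvd_of_dvd_of_dvd (by norm_num) twelve h
    have h6 := Nat.le_of_dvd Nat.card_pos h5
    have h8 : Nat.card (centralizer ({x0} : Set Cfsg.Spor.He)) ≤ 1176 := card0
    omega
  exact sq_dvd_cent (p := 7) (noAb_of h4 order0 h0) (by rw [card_he]; norm_num) h4 hx

theorem card_x0 : Nat.card (centralizer ({x0} : Set Cfsg.Spor.He)) = 588 ∨
    Nat.card (centralizer ({x0} : Set Cfsg.Spor.He)) = 1176 := by
  have := finHe
  have h1 : 12 * 49 ∣ Nat.card (centralizer ({x0} : Set Cfsg.Spor.He)) :=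
    Nat.Coprime.mul_dvd_of_dvd_of_dvd (by norm_num) twelve (card_seven order0)
  have h2 : Nat.card (centralizer ({x0} : Set Cfsg.Spor.He)) ≤ 1176 := card0
  have h3 : 0 < Nat.card (centralizer ({x0} : Set Cfsg.Spor.He)) := Nat.card_pos
  omega

theorem card_x1 : Nat.card (centralizer ({x1} : Set Cfsg.Spor.He)) = 98 ∨
    Nat.card (centralizer ({x1} : Set Cfsg.Spor.He)) = 196 := by
  have := finHe
  have h1 : 2 * 49 ∣ Nat.card (centralizer ({x1} : Set Cfsg.Spor.He)) :=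
    Nat.Coprime.mul_dvd_of_dvd_of_dvd (by norm_num) two_x1 (card_seven order1)
  have h2 : Nat.card (centralizer ({x1} : Set Cfsg.Spor.He)) ≤ 196 := card1
  have h3 : 0 < Nat.card (centralizer ({x1} : Set Cfsg.Spor.He)) := Nat.card_pos
  omega

/-- **the elements of order 7** -/
theorem seven {x : Cfsg.Spor.He} (hx : orderOf x = 7) :
    Nat.card (centralizer ({x} : Set Cfsg.Spor.He)) = 1029 ∨
    (Nat.card (centralizer ({x} : Set Cfsg.Spor.He)) = 588 ∨ Nat.card (centralizer ({x} : Set Cfsg.Spor.He)) = 1176) ∨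
    (Nat.card (centralizer ({x} : Set Cfsg.Spor.He)) = 98 ∨ Nat.card (centralizer ({x} : Set Cfsg.Spor.He)) = 196) := by
  have := finHe
  rcases Cfsg.Agent.H14.Tor.He.seven hx with ⟨z, hz, hzx⟩ | h
  · have h2 : 2 ∣ Nat.card (centralizer ({x} : Set Cfsg.Spor.He)) := dvd_cent hzx hz
    rcases even_cases hx (by rw [Nat.not_odd_iff_even, even_iff_two_dvd]; exact h2) with h | h
    · rw [h]; exact Or.inr (Or.inl card_x0)
    · rw [h]; exact Or.inr (Or.inr card_x1)
  · exact Or.inl h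

theorem comm_x0 : x0 * wd [.b, .a] = wd [.b, .a] * x0 := by
  have h : wd [.b, .a] * wd X0 = wd X0 * wd [.b, .a] := comm_of_chk (by decide +kernel)
  exact h.symm

end Cfsg.Agent.H725.CovHe
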