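import Cfsg.Agent.H725.Cov.HeEnd
import Cfsg.Agent.H725.Cov.HeFacts
import Cfsg.Agent.H455.Cov.Tool
import Cfsg.Agent.H257.El.EngA
import Cfsg.Agent.NotCT.Orders

/-!
# S2499: the Held group (helper725)

Elements of orders 17, 28 and an element of order 7 with centralizer of order 98 or 196.
-/

set_option autoImplicit false
set_option maxRecDepth 100000

namespace Cfsg.Agent.H725.Cov

open Cfsg Subgroup Cfsg.Agent.OrdDiv Cfsg.Agent.H278.Cov Cfsg.Agent.H455.Cov
open Cfsg.Agent.H725.CovHe

universe u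

/-- the facts -/
structure TSit (T : Type u) [Group T] : Prop where
  card : Nat.card T = 4030387200
  tri : ∀ x : T, orderOf x = 7 → Nat.card (centralizer ({x} : Set T)) = 1029 ∨
    (Nat.card (centralizer ({x} : Set T)) = 588 ∨ Nat.card (centralizer ({x} : Set T)) = 1176) ∨
    (Nat.card (centralizer ({x} : Set T)) = 98 ∨ Nat.card (centralizer ({x} : Set T)) = 196)

namespace TSit

variable {T : Type u} [Group T] [Finite T]

theorem nd (S : TSit T) : ¬ 7 ^ 4 ∣ Nat.card T := by rw [S.card]; norm_num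

/-- the order of a subgroup containing elements of the two types -/
theorem d343 (S : TSit T) (H : Subgroup T) {a b : T} (haH : a ∈ H) (hbH : b ∈ H) (ha : orderOf a = 7)
    (hb : orderOf b = 7)
    (hac : Nat.card (centralizer ({a} : Set T)) = 588 ∨ Nat.card (centralizer ({a} : Set T)) = 1176)
    (hbc : Nat.card (centralizer ({b} : Set T)) = 98 ∨ Nat.card (centralizer ({b} : Set T)) = 196) :
    343 ∣ Nat.card H := by
  have h3 : 7 ^ 3 ∣ Nat.card T := by rw [S.card]; norm_num
  have hna : NoAb 7 T := noAb_of S.nd ha (by rcases hac with h | h <;> rw [h] <;> norm_num)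
  obtain ⟨A⟩ : Nonempty (Sylow 7 H) := inferInstance
  -- conjugates of `a` and `b` in `A`
  have key : ∀ x : T, x ∈ H → orderOf x = 7 → ∃ y ∈ (A : Subgroup H).map H.subtype, orderOf y = 7 ∧
      Nat.card (centralizer ({y} : Set T)) = Nat.card (centralizer ({x} : Set T)) := by
    intro x hxH hx
    have hx' : orderOf (⟨x, hxH⟩ : H) = 7 := by rw [Subgroup.orderOf_mk, hx]
    have hxp : IsPGroup 7 (zpowers (⟨x, hxH⟩ : H)) := IsPGroup.of_card (n := 1) (by rw [Nat.card_zpowers, hx', pow_one])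
    obtain ⟨P, hxP'⟩ := hxp.exists_le_sylow
    have hxP : (⟨x, hxH⟩ : H) ∈ (P : Subgroup H) := hxP' (mem_zpowers _)
    obtain ⟨g, hg⟩ := MulAction.exists_smul_eq H P A
    have hgx : g * ⟨x, hxH⟩ * g⁻¹ ∈ (A : Subgroup H) := by
      rw [← hg, Sylow.coe_subgroup_smul]
      exact ⟨_, hxP, rfl⟩
    refine ⟨g * x * (g : T)⁻¹, ⟨_, hgx, rfl⟩, ?_, card_centralizer_conj _ _⟩
    rw [← hx]
    exact orderOf_injective (MulAut.conj (g : T)).toMonoidHom (MulAut.conj (g : T)).injective x
  obtain ⟨a', haA, ha', hac'⟩ := key a haH ha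
  obtain ⟨b', hbA, hb', hbc'⟩ := key b hbH hb
  rw [← hac'] at hac
  rw [← hbc'] at hbc
  obtain ⟨k, hk⟩ := (IsPGroup.iff_card).1 A.isPGroup'
  by_cases hk3 : 3 ≤ k
  · have h1 : 7 ^ 3 ∣ Nat.card A := by rw [hk]; exact pow_dvd_pow 7 hk3
    have h2 := h1.trans (Subgroup.card_subgroup_dvd_card (A : Subgroup H))
    simpa using h2
  exfalso
  -- `A` is commutative
  have hAc : ∀ x ∈ (A : Subgroup H).map H.subtype, ∀ y ∈ (A : Subgroup H).map H.subtype, x * y = y * x := by
    have h1 : ∀ x y : (A : Subgroup H), x * y = y * x := by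
      have hk2 : k = 0 ∨ k = 1 ∨ k = 2 := by omega
      rcases hk2 with rfl | rfl | rfl
      · have h2 : Subsingleton (A : Subgroup H) := (Nat.card_eq_one_iff_unique.1 (by simpa using hk)).1
        intro x y
        exact Subsingleton.elim _ _
      · have h2 : IsCyclic (A : Subgroup H) := isCyclic_of_prime_card (p := 7) (by simpa using hk)
        intro x y
        exact (IsCyclic.isMulCommutative (α := (A : Subgroup H))).is_comm.comm x y
      · exact (IsPGroup.isMulCommutative_of_card_eq_prime_sq (p := 7) hk).is_comm.comm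
    rintro _ ⟨x, hx, rfl⟩ _ ⟨y, hy, rfl⟩
    have h3 := h1 ⟨x, hx⟩ ⟨y, hy⟩
    exact congrArg (fun z : (A : Subgroup H) => ((z : H) : T)) h3
  have hAp : IsPGroup 7 ((A : Subgroup H).map H.subtype) := A.isPGroup'.map H.subtype
  obtain ⟨P, hAP⟩ := hAp.exists_le_sylow
  have haP := hAP haA
  have hbP := hAP hbA
  obtain ⟨w, hwP, hw, hwc, hPc, -⟩ := exists_center hna (card_sylow h3 S.nd P)
  -- the centralizer of `w`
  have hwd : 343 ∣ Nat.card (centralizer ({w} : Set T)) := by
    have h1 : (P : Subgroup T) ≤ centralizer ({w} : Set T) := fun g hg => mem_centralizer_singleton_iff.2 (hwc g hg)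
    have h2 := Subgroup.card_dvd_of_le h1
    rw [card_sylow h3 S.nd P] at h2
    simpa using h2
  have hnw : ∀ x : T, orderOf x = 7 → ¬ 343 ∣ Nat.card (centralizer ({x} : Set T)) → x ∉ zpowers w := by
    rintro x hx hxd ⟨i, hi⟩
    have hi' : w ^ i = x := hi
    have h1 : ¬ ((7 : ℕ) : ℤ) ∣ i := by
      intro h
      rw [(orderOf_dvd_iff_zpow_eq_one (x := w)).1 (by rw [hw]; exact h)] at hi'
      rw [← hi', orderOf_one] at hx
      norm_num at hx
    apply hxd
    rw [← hi', centralizer_zpow hw h1]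
    exact hwd
  have haw : a' ∉ zpowers w := hnw a' ha' (by rcases hac with h | h <;> rw [h] <;> norm_num)
  have hbw : b' ∉ zpowers w := hnw b' hb' (by rcases hbc with h | h <;> rw [h] <;> norm_num)
  have han : ¬ ∀ g ∈ (P : Subgroup T), g * a' = a' * g := by
    intro h
    have h1 : (P : Subgroup T) ≤ centralizer ({a'} : Set T) := fun g hg => mem_centralizer_singleton_iff.2 (h g hg)
    have h2 := Subgroup.card_dvd_of_le h1
    rw [card_sylow h3 S.nd P] at h2
    rcases hac with h | h <;> rw [h] at h2 <;> norm_num at h2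
  obtain ⟨i, j, hij⟩ := three hna hw ha' hb' (hwc a' haP).symm (hwc b' hbP).symm (hAc a' haA b' hbA) haw
  have hj : ¬ ((7 : ℕ) : ℤ) ∣ j := by
    intro h
    rw [(orderOf_dvd_iff_zpow_eq_one (x := a')).1 (by rw [ha']; exact h), mul_one] at hij
    exact hbw ⟨i, hij.symm⟩
  obtain ⟨g, hg, hgx⟩ := exists_conj_of (p := 7) hw hwc hPc haP han hj i
  have h5 : w ^ i * a' ^ j = a' ^ j * w ^ i := ((show Commute w a' from (hwc a' haP).symm).zpow_zpow i j).eq
  have h6 : Nat.card (centralizer ({b'} : Set T)) = Nat.card (centralizer ({a'} : Set T)) := by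
    rw [hij, h5, ← hgx, card_centralizer_conj, centralizer_zpow ha' hj]
  rcases hac with h | h <;> rcases hbc with h' | h' <;> rw [h, h'] at h6 <;> norm_num at h6

/-- **the pair of incompatible elements** -/
theorem inc (tab : OrderTable.{u}) (known : H257.El.Known.{u}) (S : TSit T) (h17 : Bad T 17 7) {a f b : T}
    (ha : orderOf a = 7) (hf : orderOf f = 4) (haf : a * f = f * a) (hb : orderOf b = 7)
    (hac : Nat.card (centralizer ({a} : Set T)) = 588 ∨ Nat.card (centralizer ({a} : Set T)) = 1176)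
    (hbc : Nat.card (centralizer ({b} : Set T)) = 98 ∨ Nat.card (centralizer ({b} : Set T)) = 196) :
    Inc (a * f) b := by
  intro H hH
  by_contra hcon
  rw [not_or] at hcon
  obtain ⟨⟨g, hg⟩, u, hu⟩ := And.intro (not_av hcon.1) (not_av hcon.2)
  have h3 : 7 ^ 3 ∣ Nat.card T := by rw [S.card]; norm_num
  have hna : NoAb 7 T := noAb_of S.nd ha (by rcases hac with h | h <;> rw [h] <;> norm_num)
  have horder : ∀ x y : T, orderOf (x * y * x⁻¹) = orderOf y := fun x y =>
    orderOf_injective (MulAut.conj x).toMonoidHom (MulAut.conj x).injective y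
  have hc : Commute a f := haf
  have ha7 : a ^ 7 = 1 := by rw [← ha, pow_orderOf_eq_one]
  have hf4 : f ^ 4 = 1 := by rw [← hf, pow_orderOf_eq_one]
  have haH : g * a * g⁻¹ ∈ H := by
    have h1 := H.pow_mem hg 8
    rw [conj_pow, hc.mul_pow, show 8 = 7 + 1 by norm_num, pow_succ a, ha7, one_mul,
      show 7 + 1 = 4 + 4 by norm_num, pow_add f, hf4, mul_one, mul_one] at h1
    exact h1
  have hfH : g * f * g⁻¹ ∈ H := by
    have h1 := H.pow_mem hg 21
    rw [conj_pow, hc.mul_pow, show 21 = 7 * 3 by norm_num, pow_mul a, ha7, one_pow, one_mul,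
      show 7 * 3 = 4 * 5 + 1 by norm_num, pow_succ f, pow_mul f, hf4, one_pow, one_mul] at h1
    exact h1
  have hac' : Nat.card (centralizer ({g * a * g⁻¹} : Set T)) = 588 ∨
      Nat.card (centralizer ({g * a * g⁻¹} : Set T)) = 1176 := by rw [card_centralizer_conj]; exact hac
  have hbc' : Nat.card (centralizer ({u * b * u⁻¹} : Set T)) = 98 ∨
      Nat.card (centralizer ({u * b * u⁻¹} : Set T)) = 196 := by rw [card_centralizer_conj]; exact hbc
  have h343 : 343 ∣ Nat.card H :=
    S.d343 H haH hu (by rw [horder, ha]) (by rw [horder, hb]) hac' hbc'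
  have hHT : Nat.card H ∣ 4030387200 := by rw [← S.card]; exact Subgroup.card_subgroup_dvd_card H
  have hK : KSit H := by
    refine ⟨h343, ?_, hna.subgroup H, ?_, ?_, ?_⟩
    · intro h
      exact absurd (h.trans hHT) (by norm_num)
    · intro x hx
      have h1 := card_centralizer_dvd H x
      rcases S.tri x (by rw [Subgroup.orderOf_coe, hx]) with h | (h | h) | (h | h)
      · exact Or.inl (h ▸ h1)
      · exact Or.inr ((h ▸ h1).trans (by norm_num))
      · exact Or.inr (h ▸ h1)
      · exact Or.inr ((h ▸ h1).trans (by norm_num))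
      · exact Or.inr ((h ▸ h1).trans (by norm_num))
    · refine ⟨⟨_, hu⟩, by rw [Subgroup.orderOf_mk, horder, hb], ?_⟩
      have h1 := card_centralizer_dvd H ⟨_, hu⟩
      rcases hbc' with h | h
      · exact (h ▸ h1).trans (by norm_num)
      · exact h ▸ h1
    · refine ⟨⟨_, haH⟩, ⟨_, hfH⟩, by rw [Subgroup.orderOf_mk, horder, ha], by rw [Subgroup.orderOf_mk, horder, hf], ?_⟩
      apply Subtype.ext
      show g * a * g⁻¹ * (g * f * g⁻¹) = g * f * g⁻¹ * (g * a * g⁻¹)
      calc g * a * g⁻¹ * (g * f * g⁻¹) = g * (a * f) * g⁻¹ := by group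
        _ = g * (f * a) * g⁻¹ := by rw [haf]
        _ = _ := by group
  have h17' : ¬ 17 ∣ Nat.card H := fun h => h17 H hH h ((by norm_num : (7 : ℕ) ∣ 343).trans h343)
  refine hK.false tab known ?_
  have h1 : (Nat.card H).Coprime 17 := ((Nat.Prime.coprime_iff_not_dvd (by norm_num)).2 h17').symm
  have h2 : Nat.card H ∣ 17 * 237081600 := by rw [show 17 * 237081600 = 4030387200 by norm_num]; exact hHT
  exact h1.dvd_of_dvd_mul_left h2

end TSit

/-- the factorisation of the order of the Held group -/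
def lHe : List (ℕ × ℕ) := [(2, 10), (3, 3), (5, 2), (7, 3), (17, 1)]

theorem noTwo_he (tab : OrderTable.{0}) (known : H257.El.Known.{0}) {T : Type} [Group T] [Finite T]
    (h : Spor.IsoHe T) : NoTwo T := by
  have hc := NotCT.Orders.he h
  obtain ⟨e⟩ := h
  have hfin : Finite Cfsg.Spor.He := finHe
  have hcent : ∀ x : T, Nat.card (centralizer ({x} : Set T)) = Nat.card (centralizer ({e x} : Set Cfsg.Spor.He)) :=
    fun x => Cfsg.Agent.H14.Tor.card_cent_equiv e x
  have S : TSit T := ⟨hc, fun x hx => by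
    rw [hcent]
    exact seven (by rw [MulEquiv.orderOf_eq, hx])⟩
  have hno : ∀ z : T, orderOf z ≠ 17 * 7 := by
    refine H257.El.noOrd_congr e fun z hz => ?_
    have h1 : orderOf (z ^ 7) = 17 := by
      rw [orderOf_pow_of_dvd (by norm_num) (by rw [hz]; norm_num), hz]
    have h2 := Cfsg.Agent.H436.HeFive.cent17 (z ^ 7) h1
    have h3 : orderOf z ∣ Nat.card (centralizer ({z ^ 7} : Set Cfsg.Spor.He)) :=
      Subgroup.orderOf_dvd_natCard _ (mem_centralizer_singleton_iff.2 ((Commute.refl z).pow_right 7).eq)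
    have h4 := h3.trans h2
    rw [hz] at h4
    norm_num at h4
  have h17 : Bad T 17 7 := bad_of_chk tab known (l := lHe) hc (r := 17) (p := 7) (by norm_num) (by norm_num) hno
    (by decide +kernel)
  obtain ⟨z, hz⟩ := exists_elt (T := T) (p := 17) (by norm_num) (by rw [hc]; norm_num)
  obtain ⟨a, had⟩ : ∃ a, a = e.symm Cfsg.Agent.CpAutHe.Seven.x0 := ⟨_, rfl⟩
  obtain ⟨b, hbd⟩ : ∃ b, b = e.symm Cfsg.Agent.CpAutHe.Seven.x1 := ⟨_, rfl⟩
  obtain ⟨f, hfd⟩ : ∃ f, f = e.symm (Cfsg.Agent.SporadicB.HePerm.wd [.b, .a]) := ⟨_, rfl⟩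
  have ha : orderOf a = 7 := by rw [had, MulEquiv.orderOf_eq, Cfsg.Agent.CpAutHe.Seven.order0]
  have hb : orderOf b = 7 := by rw [hbd, MulEquiv.orderOf_eq, Cfsg.Agent.CpAutHe.Seven.order1]
  have hf : orderOf f = 4 := by rw [hfd, MulEquiv.orderOf_eq, Cfsg.Agent.H492.IMHe.o4]
  have haf : a * f = f * a := by rw [had, hfd, ← map_mul, ← map_mul, comm_x0]
  have hac : Nat.card (centralizer ({a} : Set T)) = 588 ∨ Nat.card (centralizer ({a} : Set T)) = 1176 := by
    rw [hcent, had, MulEquiv.apply_symm_apply]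
    exact card_x0
  have hbc : Nat.card (centralizer ({b} : Set T)) = 98 ∨ Nat.card (centralizer ({b} : Set T)) = 196 := by
    rw [hcent, hbd, MulEquiv.apply_symm_apply]
    exact card_x1
  have h7af : 7 ∣ orderOf (a * f) := by
    rw [(show Commute a f from haf).orderOf_mul_eq_mul_orderOf_of_coprime (by rw [ha, hf]; norm_num), ha, hf]
    norm_num
  have h7b : 7 ∣ orderOf b := by rw [hb]
  exact noTwo_of_three (x := z) (y := a * f) (z := b) (inc_of_bad h17 hz h7af)
    (S.inc tab known h17 ha hf haf hb hac hbc) (inc_of_bad h17 hz h7b)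

end Cfsg.Agent.H725.Cov
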