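import Cfsg.Agent.H455.Cov.Tool
import Cfsg.Agent.H981.SCTh
import Cfsg.Agent.H303.MaxThThirteen
import Cfsg.Agent.H257.El.EngA
import Cfsg.Agent.H257.El.Row.Th
import Cfsg.Agent.NotCT.Orders

/-!
# S2499: the Thompson group (helper725)

Elements of orders 19, 31, 13.
-/

set_option autoImplicit false

namespace Cfsg.Agent.H725.Cov

open Cfsg Subgroup Cfsg.Agent.OrdDiv Cfsg.Agent.H278.Cov Cfsg.Agent.H455.Cov

/-- elements of the same prime order `p`, where `p ^ 2` does not divide the order -/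
theorem exists_conj_zpowers {X : Type*} [Group X] [Finite X] {p : ℕ} (hp : p.Prime) (h2 : ¬ p ^ 2 ∣ Nat.card X)
    {a b : X} (ha : orderOf a = p) (hb : orderOf b = p) : ∃ g : X, g * b * g⁻¹ ∈ zpowers a := by
  have hpf : Fact p.Prime := ⟨hp⟩
  have key : ∀ c : X, orderOf c = p → ∃ P : Sylow p X, (P : Subgroup X) = zpowers c := by
    intro c hc
    have hcard : Nat.card (zpowers c) = p := by rw [Nat.card_zpowers, hc]
    have hP : IsPGroup p (zpowers c) := by
      rw [IsPGroup.iff_card]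
      exact ⟨1, by rw [hcard, pow_one]⟩
    obtain ⟨P, hP⟩ := hP.exists_le_sylow
    refine ⟨P, (Subgroup.eq_of_le_of_card_ge hP ?_).symm⟩
    obtain ⟨k, hk⟩ := (IsPGroup.iff_card).1 P.isPGroup'
    have h3 : p ^ k ∣ Nat.card X := hk ▸ Subgroup.card_subgroup_dvd_card _
    have h4 : k ≤ 1 := by
      by_contra h
      exact h2 ((pow_dvd_pow p (by omega : 2 ≤ k)).trans h3)
    rw [hcard, hk]
    calc p ^ k ≤ p ^ 1 := Nat.pow_le_pow_right hp.pos h4
      _ = p := pow_one p
  obtain ⟨P, hP⟩ := key a ha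
  obtain ⟨Q, hQ⟩ := key b hb
  obtain ⟨g, hg⟩ := MulAction.exists_smul_eq X Q P
  refine ⟨g, ?_⟩
  rw [← hP, ← hg, Sylow.coe_subgroup_smul]
  have h1 : b ∈ (Q : Subgroup X) := by rw [hQ]; exact mem_zpowers b
  exact ⟨b, h1, rfl⟩

/-- elements of order 13 which are conjugate to their fifth powers, and elements of order 31 -/
theorem ncomm {X : Type*} [Group X] [Finite X] (h31 : ¬ 31 ^ 2 ∣ Nat.card X)
    (na : ∀ x t : X, orderOf x = 31 → orderOf t = 2 → x * t ≠ t * x) {x h u : X} (hx : orderOf x = 13)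
    (hh : h * x = x ^ 5 * h) (hu : orderOf u = 31) : x * u ≠ u * x := by
  intro hxu
  have hhx : h * x * h⁻¹ = x ^ 5 := by rw [hh]; group
  -- the conjugate of `u` commutes with `x ^ 5`, hence with `x`
  have h1 : Commute (x ^ 5) (h * u * h⁻¹) := by
    rw [← hhx]
    show h * x * h⁻¹ * (h * u * h⁻¹) = h * u * h⁻¹ * (h * x * h⁻¹)
    calc h * x * h⁻¹ * (h * u * h⁻¹) = h * (x * u) * h⁻¹ := by group
      _ = h * (u * x) * h⁻¹ := by rw [hxu]
      _ = _ := by group
  have h2 : x = (x ^ 5) ^ 8 := by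
    rw [← pow_mul, show 5 * 8 = 13 * 3 + 1 by norm_num, pow_add, pow_mul, ← hx, pow_orderOf_eq_one, one_pow, one_mul,
      pow_one]
  have h3 : Commute x (h * u * h⁻¹) := by
    rw [h2]
    exact h1.pow_left 8
  -- in the centralizer of `x`
  have hcu : orderOf (h * u * h⁻¹) = 31 := by
    rw [← hu]
    exact orderOf_injective (MulAut.conj h).toMonoidHom (MulAut.conj h).injective u
  have hC : ¬ 31 ^ 2 ∣ Nat.card (centralizer ({x} : Set X)) := fun hd =>
    h31 (hd.trans (Subgroup.card_subgroup_dvd_card _))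
  obtain ⟨c, hc⟩ := exists_conj_zpowers (X := centralizer ({x} : Set X)) (p := 31) (by norm_num) hC
    (a := ⟨u, mem_centralizer_singleton_iff.2 hxu.symm⟩)
    (b := ⟨h * u * h⁻¹, mem_centralizer_singleton_iff.2 h3.symm⟩)
    (by rw [Subgroup.orderOf_mk, hu]) (by rw [Subgroup.orderOf_mk, hcu])
  have hcx : (c : X) * x = x * c := mem_centralizer_singleton_iff.1 c.2
  obtain ⟨k, hk⟩ := mem_zpowers_iff.1 hc
  have hk' : u ^ k = (c : X) * (h * u * h⁻¹) * (c : X)⁻¹ := congrArg Subtype.val hk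
  set n : X := (c : X) * h with hn
  have hnu : n * u * n⁻¹ = u ^ k := by rw [hk', hn]; group
  have hnx : n * x * n⁻¹ = x ^ 5 := by
    have h4 : (c : X) * x ^ 5 = x ^ 5 * c := (Commute.pow_right hcx 5)
    calc n * x * n⁻¹ = (c : X) * (h * x * h⁻¹) * (c : X)⁻¹ := by rw [hn]; group
      _ = x ^ 5 := by rw [hhx, h4]; group
  -- powers of `n`
  have hpow : ∀ (y : X) (j : ℤ), n * y * n⁻¹ = y ^ j → ∀ m : ℕ, n ^ m * y * (n ^ m)⁻¹ = y ^ (j ^ m) := by
    intro y j hy m
    induction m with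
    | zero => simp
    | succ m ih =>
      calc n ^ (m + 1) * y * (n ^ (m + 1))⁻¹ = n * (n ^ m * y * (n ^ m)⁻¹) * n⁻¹ := by
            rw [pow_succ']; group
        _ = n * y ^ (j ^ m) * n⁻¹ := by rw [ih]
        _ = (n * y * n⁻¹) ^ (j ^ m) := by rw [conj_zpow]
        _ = y ^ (j ^ (m + 1)) := by rw [hy, ← zpow_mul, pow_succ']
  have hwu : n ^ 30 * u * (n ^ 30)⁻¹ = u := by
    rw [hpow u k hnu 30]
    have h5 : ¬ (31 : ℤ) ∣ k := by
      intro hd
      obtain ⟨m, rfl⟩ := hd
      have h6 : u ^ (31 * m : ℤ) = 1 := by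
        rw [zpow_mul, show (31 : ℤ) = ((31 : ℕ) : ℤ) by norm_num, zpow_natCast, ← hu, pow_orderOf_eq_one, one_zpow]
      rw [h6] at hnu
      have h7 : u = 1 := by
        have h8 := congrArg (fun z => n⁻¹ * z * n) hnu
        simpa [mul_assoc] using h8
      rw [h7, orderOf_one] at hu
      norm_num at hu
    have h6 : k ^ 30 ≡ 1 [ZMOD 31] := by
      have : Fact (Nat.Prime 31) := ⟨by norm_num⟩
      have h7 := ZMod.pow_card_sub_one_eq_one (p := 31) (a := (k : ZMod 31)) (by
        rw [Ne, ZMod.intCast_zmod_eq_zero_iff_dvd]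
        exact h5)
      refine (ZMod.intCast_eq_intCast_iff (k ^ 30) 1 31).1 ?_
      push_cast
      exact h7
    have h8 : u ^ (k ^ 30) = u ^ (1 : ℤ) := by
      rw [zpow_eq_zpow_iff_modEq, hu]
      exact h6
    rw [h8, zpow_one]
  have hnx' : n * x * n⁻¹ = x ^ (5 : ℤ) := by
    rw [hnx]
    norm_cast
  have hwx : n ^ 30 * x * (n ^ 30)⁻¹ = x⁻¹ := by
    rw [hpow x 5 hnx' 30]
    have h8 : x ^ ((5 : ℤ) ^ 30) = x ^ (-1 : ℤ) := by
      rw [zpow_eq_zpow_iff_modEq, hx]
      decide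
    rw [h8, zpow_neg_one]
  -- `w = n ^ 30` has even order
  set w : X := n ^ 30 with hw
  have h2w : 2 ∣ orderOf w := by
    by_contra hodd
    obtain ⟨m, hm⟩ : Odd (orderOf w) := by
      rw [← Nat.not_even_iff_odd, even_iff_two_dvd]
      exact hodd
    have h9 : w ^ 2 * x * (w ^ 2)⁻¹ = x := by
      calc w ^ 2 * x * (w ^ 2)⁻¹ = w * (w * x * w⁻¹) * w⁻¹ := by rw [pow_two]; group
        _ = w * x⁻¹ * w⁻¹ := by rw [hwx]
        _ = (w * x * w⁻¹)⁻¹ := by group
        _ = x := by rw [hwx, inv_inv]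
    have h10 : Commute (w ^ 2) x := mul_inv_eq_iff_eq_mul.1 h9
    have h11 : Commute w x := by
      have h12 : w = (w ^ 2) ^ (m + 1) := by
        rw [← pow_mul, show 2 * (m + 1) = orderOf w + 1 by omega, pow_succ, pow_orderOf_eq_one, one_mul]
      rw [h12]
      exact h10.pow_left _
    have h13 : x⁻¹ = x := by
      rw [← hwx, h11.eq]
      group
    have h14 : x ^ 2 = 1 := by
      rw [pow_two]
      nth_rewrite 1 [← h13]
      exact inv_mul_cancel x
    have h15 := orderOf_dvd_of_pow_eq_one h14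
    rw [hx] at h15
    norm_num at h15
  have hwu' : Commute w u := mul_inv_eq_iff_eq_mul.1 hwu
  have hpos := orderOf_pos w
  refine na u (w ^ (orderOf w / 2)) hu ?_ (hwu'.pow_left _).eq.symm
  rw [orderOf_pow_of_dvd (by omega) (Nat.div_dvd_of_dvd h2w)]
  obtain ⟨j, hj⟩ := h2w
  rw [hj, Nat.mul_div_cancel_left _ (by norm_num), Nat.mul_div_cancel _ (by omega)]

/-- the Thompson group has no elements of order 403 -/
theorem noOrd_31_13 (z : Spor.Th) : orderOf z ≠ 31 * 13 := by
  have hfin : Finite Spor.Th := KFacts.Th.Main.finite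
  have hcard : Nat.card Spor.Th = 90745943887872000 := KFacts.Th.Main.ctx.card
  obtain ⟨x, h, hx, hh, -⟩ := H303.MaxTh.exists_Th
  have na : ∀ x t : Spor.Th, orderOf x = 31 → orderOf t = 2 → x * t ≠ t * x := by
    have h1 : H393.Iso.NA 31 Spor.Th := H393.Iso.NA.of_card fun t ht => by
      rw [MonsterX.ThOneClass.card_centralizer ht]
      norm_num
    exact h1
  refine H257.El.noOrd_of_noComm (by norm_num) (by norm_num) (fun u y hu hy huy => ?_) z
  obtain ⟨g, hg⟩ := exists_conj_zpowers (p := 13) (by norm_num) (by rw [hcard]; norm_num) hy hx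
  have h1 : Commute u (g * x * g⁻¹) := by
    obtain ⟨k, hk⟩ := mem_zpowers_iff.1 hg
    rw [← hk]
    exact Commute.zpow_right huy k
  have h2 : x * (g⁻¹ * u * g) = g⁻¹ * u * g * x := by
    calc x * (g⁻¹ * u * g) = g⁻¹ * ((g * x * g⁻¹) * u) * g := by group
      _ = g⁻¹ * (u * (g * x * g⁻¹)) * g := by rw [h1.eq]
      _ = _ := by group
  refine ncomm (by rw [hcard]; norm_num) na hx hh (u := g⁻¹ * u * g) ?_ h2
  rw [← hu]
  have := orderOf_injective (MulAut.conj g⁻¹).toMonoidHom (MulAut.conj g⁻¹).injective u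
  simpa using this

/-- the factorisation of the order of the Thompson group -/
def lTh : List (ℕ × ℕ) := [(2, 15), (3, 10), (5, 3), (7, 2), (13, 1), (19, 1), (31, 1)]

theorem noTwo_th (tab : OrderTable.{0}) (known : H257.El.Known.{0}) {T : Type} [Group T] [Finite T]
    (h : Spor.IsoTh T) : NoTwo T := by
  have hc := NotCT.Orders.th h
  obtain ⟨e⟩ := h
  have h19 : ∀ w : ℕ, w.Prime → 19 ≠ w → ∀ z : T, orderOf z ≠ 19 * w := fun w hw hne =>
    H257.El.noOrd_of_cent (by norm_num) (H537.Cop.SC.congr e H981.SCTh.sc_th) hw hne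
  refine noTwo_of_miss (a := 19) (W := [31, 13]) (by norm_num) (by rw [hc]; norm_num) ?_ ?_ ?_
  · intro w hw
    simp only [List.mem_cons, List.not_mem_nil, or_false] at hw
    rw [hc]
    rcases hw with rfl | rfl <;> norm_num
  · refine bad_of_chkW tab known (l := lTh) hc (by norm_num) ?_ ?_ (by decide +kernel)
    · intro w hw
      simp only [List.mem_cons, List.not_mem_nil, or_false] at hw
      rcases hw with rfl | rfl <;> norm_num
    · intro w hw
      simp only [List.mem_cons, List.not_mem_nil, or_false] at hw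
      rcases hw with rfl | rfl <;> exact h19 _ (by norm_num) (by norm_num)
  · exact (bad_of_chk tab known (l := lTh) hc (r := 31) (p := 13) (by norm_num) (by norm_num)
      (H257.El.noOrd_congr e noOrd_31_13) (by decide +kernel)).miss

end Cfsg.Agent.H725.Cov
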