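import Cfsg.Agent.H725.Cov.HeK
import Cfsg.Agent.H934.OutAll
import Cfsg.Agent.OrdDiv.Main
import Cfsg.Agent.ClassicalGeometry.PSL2Basic
import Cfsg.Agent.S0813
import Cfsg.Agent.H257.El.Eng

/-!
# S2499, the Held group: the contradiction (helper725)
-/

set_option autoImplicit false
set_option maxRecDepth 100000

namespace Cfsg.Agent.H725.CovHe

open Cfsg Subgroup
open Cfsg.Agent.OrdDiv

universe u

/-- a group with a normal subgroup of trivial centralizer -/
theorem card_dvd_mulaut {H : Type*} [Group H] [Finite H] (T : Subgroup H) [T.Normal]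
    (hC : centralizer (T : Set H) = ⊥) : Nat.card H ∣ Nat.card (MulAut T) := by
  have h1 : (MulAut.conjNormal (H := T) : H →* MulAut T).ker = ⊥ := by
    rw [eq_bot_iff, ← hC]
    intro h hh
    rw [mem_centralizer_iff]
    intro t ht
    have h2 : ((MulAut.conjNormal h ⟨t, ht⟩ : T) : H) = t := by
      rw [MonoidHom.mem_ker.1 hh]
      rfl
    rw [MulAut.conjNormal_apply, mul_inv_eq_iff_eq_mul] at h2
    exact h2.symm
  exact Subgroup.card_dvd_of_injective _ ((MonoidHom.ker_eq_bot_iff _).1 h1)

/-- the automorphism group and the outer automorphism group -/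
theorem card_mulaut_dvd {S : Type*} [Group S] [Finite S] :
    Nat.card (MulAut S) ∣ Nat.card S * Nat.card (Out S) := by
  rw [Subgroup.card_eq_card_quotient_mul_card_subgroup (Inn S), mul_comm]
  exact Nat.mul_dvd_mul (Subgroup.card_range_dvd _) dvd_rfl

def lK : List (ℕ × ℕ) := [(2, 10), (3, 3), (5, 2), (7, 3)]

theorem valid_K : valid lK 237081600 = true := by decide +kernel

theorem cand_K : ∀ g ∈ (cands lK 237081600).filter (fun g => (fun n => Nat.beq (n % 49) 0) (ordN g)),
    g = .psl 2 49 := by decide +kernel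

theorem KSit.false (tab : OrderTable.{u}) (known : H257.El.Known.{u}) {K : Type u} [Group K] [Finite K]
    (S : KSit K) (hd : Nat.card K ∣ 237081600) : False := by
  obtain ⟨T, hTn, hTs, hTc, hC, h7⟩ := S.exists_simple
  have hTH : Nat.card T ∣ Nat.card K := Subgroup.card_subgroup_dvd_card T
  have hAut := card_dvd_mulaut T hC
  have hknown : IsKnownSimple' T := known T
  have hna : ¬ ∀ a b : T, a * b = b * a := fun h => hTc ⟨⟨h⟩⟩
  by_cases h49 : 49 ∣ Nat.card T
  · obtain ⟨g, hg, hR, ho⟩ := exists_good tab hknown hna valid_K (hTH.trans hd)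
    have hg2 : g ∈ (cands lK 237081600).filter (fun g => (fun n => Nat.beq (n % 49) 0) (ordN g)) := by
      refine List.mem_filter.2 ⟨hg, ?_⟩
      rw [← ho]
      rw [Nat.beq_eq]
      exact Nat.mod_eq_zero_of_dvd h49
    obtain rfl := cand_K g hg2
    obtain ⟨F, _, _, hF, ⟨e⟩⟩ := hR
    have ho' : Nat.card T = 58800 := ho.trans (by decide +kernel)
    have h1 : Nat.card (MulAut T) = Nat.card T * 4 := by
      rw [Nat.card_congr (MulAut.congr e).toEquiv, S0813.result 7 2 (by norm_num) (by rw [hF]; norm_num) 2 (by norm_num) (by norm_num)]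
      have h2 := ClassicalGeometry.PSL2Basic.card_PGL_mul (Fin 2) F
      rw [Matrix.card_GL_field, hF] at h2
      have h3 : (∏ i : Fin 2, (49 ^ 2 - 49 ^ (i : ℕ)) : ℕ) = 117600 * 48 := by decide +kernel
      rw [h3] at h2
      rw [ho', if_pos rfl]
      omega
    rw [h1, ho'] at hAut
    have h2 := S.d343.trans hAut
    norm_num at h2
  · -- the outer automorphism group
    have hbd := H934.OutAll.bd hTc hknown
    obtain ⟨Q⟩ : Nonempty (Sylow 2 T) := inferInstance
    have hQ : (Q : Subgroup T) ≠ ⊤ := by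
      intro h
      have h1 : IsPGroup 2 (⊤ : Subgroup T) := h ▸ Q.isPGroup'
      have h2 : IsPGroup 2 T := h1.of_equiv Subgroup.topEquiv
      obtain ⟨k, hk⟩ := (IsPGroup.iff_card).1 h2
      rw [hk] at h7
      have h3 := (Nat.Prime.dvd_of_dvd_pow (by norm_num : Nat.Prime 7) h7)
      norm_num at h3
    have hidx : (Q : Subgroup T).index ∣ 4725 := by
      have h1 : (Q : Subgroup T).index ∣ 237081600 := (Subgroup.index_dvd_card _).trans (hTH.trans hd)
      have h2 : ¬ 2 ∣ (Q : Subgroup T).index := Q.not_dvd_index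
      have h3 : (Q : Subgroup T).index.Coprime (2 ^ 10) := by
        apply Nat.Coprime.pow_right
        exact ((Nat.Prime.coprime_iff_not_dvd (by norm_num)).2 h2).symm
      have h4 : (Q : Subgroup T).index ∣ 2 ^ 10 * 231525 := by
        rw [show 2 ^ 10 * 231525 = 237081600 by norm_num]; exact h1
      have h5 := h3.dvd_of_dvd_mul_left h4
      have h6 : ¬ 49 ∣ (Q : Subgroup T).index := fun h => h49 (h.trans (Subgroup.index_dvd_card _))
      -- `m ∣ 231525 = 49 * 4725`
      have h7 : (231525 : ℕ) = 7 ^ 3 * 675 := by norm_num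
      rw [h7] at h5
      obtain ⟨x, y, hx, hy, hxy⟩ := (Nat.dvd_mul.1 h5)
      obtain ⟨i, hi, rfl⟩ := (Nat.dvd_prime_pow (by norm_num : Nat.Prime 7)).1 hx
      have hi2 : i < 2 := by
        by_contra hcon
        apply h6
        rw [← hxy]
        exact (show 49 ∣ 7 ^ i from (by norm_num : (49 : ℕ) = 7 ^ 2) ▸ pow_dvd_pow 7 (by omega)).trans (Nat.dvd_mul_right _ _)
      rw [← hxy, show (4725 : ℕ) = 7 ^ 1 * 675 by norm_num]
      exact Nat.mul_dvd_mul (pow_dvd_pow 7 (by omega)) hy
    have h1 := hbd (Q : Subgroup T) hQ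
    have h2 : (Q : Subgroup T).index ≤ 4725 := Nat.le_of_dvd (by norm_num) hidx
    have h3 : 2 ^ Nat.card (Out T) ≤ 4725 ^ 3 := h1.trans (Nat.pow_le_pow_left h2 3)
    have h4 : Nat.card (Out T) < 49 := by
      by_contra hcon
      push Not at hcon
      have h5 : 2 ^ 49 ≤ 2 ^ Nat.card (Out T) := Nat.pow_le_pow_right (by norm_num) hcon
      have h6 := h5.trans h3
      norm_num at h6
    have h5 := S.d343.trans (hAut.trans card_mulaut_dvd)
    obtain ⟨m, hm⟩ := h7
    have h7m : ¬ 7 ∣ m := by
      rintro ⟨n, rfl⟩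
      exact h49 ⟨n, by rw [hm]; ring⟩
    have h6 : 49 ∣ Nat.card (Out T) := by
      rw [hm, show 343 = 7 * 49 by norm_num, mul_assoc] at h5
      have h8 := Nat.dvd_of_mul_dvd_mul_left (by norm_num) h5
      have h9 : Nat.Coprime 49 m := by
        rw [show 49 = 7 ^ 2 by norm_num]
        exact Nat.Coprime.pow_left 2 ((Nat.Prime.coprime_iff_not_dvd (by norm_num)).2 h7m)
      exact h9.dvd_of_dvd_mul_left h8
    have hpos : 0 < Nat.card (Out T) := by
      have : Finite (MulAut T) := inferInstance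
      have : Finite (Out T) := Quotient.finite _
      exact Nat.card_pos
    have := Nat.le_of_dvd hpos h6
    omega

end Cfsg.Agent.H725.CovHe
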