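import Mathlib
import Cfsg.Prelude.Def_Transfer

/-!
# Groups with Sylow `p`-subgroups of order `p ^ 3` without abelian subgroups of order `p ^ 3` (helper725)
-/

set_option autoImplicit false

namespace Cfsg.Agent.H725.CovHe

open Cfsg Subgroup

section Tools

variable {G : Type*} [Group G] [Finite G] {p : ℕ} [hp : Fact p.Prime]

/-- the fixed points of a `p`-group `T` on a nontrivial `p`-group `Z` which it normalises -/
theorem exists_fixed {T Z : Subgroup G} (hT : IsPGroup p T)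
    (hZ : p ∣ Nat.card Z) (hn : ∀ x ∈ T, ∀ z ∈ Z, x * z * x⁻¹ ∈ Z) :
    ∃ z ∈ Z, z ≠ 1 ∧ ∀ x ∈ T, x * z = z * x := by
  let act : MulAction T Z :=
    { smul := fun x z => ⟨x * z * (x : G)⁻¹, hn x x.2 z z.2⟩
      one_smul := fun z => Subtype.ext (by change (1 : G) * z * (1 : G)⁻¹ = z; simp)
      mul_smul := fun x y z => Subtype.ext (by
        change ((x : G) * y) * z * ((x : G) * y)⁻¹ = x * (y * z * (y : G)⁻¹) * (x : G)⁻¹
        group) }
  have h1 : (1 : Z) ∈ MulAction.fixedPoints T Z := by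
    intro x
    apply Subtype.ext
    change (x : G) * 1 * (x : G)⁻¹ = 1
    simp
  obtain ⟨b, hb, hb1⟩ := hT.exists_fixed_point_of_prime_dvd_card_of_fixed_point Z hZ h1
  refine ⟨b, b.2, fun h => hb1 (Subtype.ext h.symm), fun x hx => ?_⟩
  have h2 : (x : G) * b * (x : G)⁻¹ = b := congrArg Subtype.val (hb ⟨x, hx⟩)
  calc x * (b : G) = x * b * x⁻¹ * x := by group
    _ = b * x := by rw [h2]

/-- a power of order `p` of a nontrivial element of a `p`-group -/
theorem exists_pow_order {Z : Subgroup G} (hZ : IsPGroup p Z) {z : G} (hz : z ∈ Z) (h1 : z ≠ 1) :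
    ∃ n : ℕ, orderOf (z ^ n) = p := by
  obtain ⟨k, hk⟩ := (IsPGroup.iff_orderOf.1 hZ) ⟨z, hz⟩
  rw [Subgroup.orderOf_mk] at hk
  have hk0 : k ≠ 0 := by
    rintro rfl
    rw [pow_zero, orderOf_eq_one_iff] at hk
    exact h1 hk
  refine ⟨p ^ (k - 1), ?_⟩
  rw [orderOf_pow_of_dvd (pow_ne_zero _ hp.out.ne_zero) (by rw [hk]; exact pow_dvd_pow p (by omega)), hk,
    Nat.pow_div (by omega) hp.out.pos, show k - (k - 1) = 1 by omega, pow_one]

/-- an element of order `p` normalising a group of order less than `p` centralises it -/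
theorem cent_small {x : G} (hx : orderOf x = p) {R : Subgroup G} (hR : Nat.card R < p)
    (hn : ∀ r ∈ R, x * r * x⁻¹ ∈ R) : ∀ r ∈ R, x * r = r * x := by
  let f : R → R := fun r => ⟨x * r * x⁻¹, hn r r.2⟩
  have hf : Function.Injective f := by
    intro a b h
    have h1 : x * (a : G) * x⁻¹ = x * b * x⁻¹ := congrArg Subtype.val h
    exact Subtype.ext (mul_left_cancel (mul_right_cancel h1))
  let σ : Equiv.Perm R := Equiv.ofBijective f (Finite.injective_iff_bijective.1 hf)
  have hσ : ∀ (n : ℕ) (r : R), (((σ ^ n) r : R) : G) = x ^ n * r * (x ^ n)⁻¹ := by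
    intro n
    induction n with
    | zero => intro r; simp
    | succ n ih =>
      intro r
      rw [pow_succ', Equiv.Perm.mul_apply]
      show x * (((σ ^ n) r : R) : G) * x⁻¹ = _
      rw [ih, pow_succ']
      group
  have h1 : σ ^ p = 1 := by
    ext r
    rw [hσ, ← hx, pow_orderOf_eq_one]
    simp
  have h2 : orderOf σ ∣ p := orderOf_dvd_of_pow_eq_one h1
  have h3 : orderOf σ ∣ (Nat.card R).factorial := by
    rw [← Nat.card_perm]
    exact orderOf_dvd_natCard σ
  have h4 : σ = 1 := by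
    rw [← orderOf_eq_one_iff]
    rcases (Nat.dvd_prime hp.out).1 h2 with h | h
    · exact h
    · rw [h, hp.out.dvd_factorial] at h3
      omega
  intro r hr
  have h5 : x * r * x⁻¹ = r := congrArg (fun τ : Equiv.Perm R => ((τ ⟨r, hr⟩ : R) : G)) h4
  calc x * r = x * r * x⁻¹ * x := by group
    _ = r * x := by rw [h5]

/-- a commutative subgroup and an element of prime order which centralises it -/
theorem ext {B : Subgroup G} (hB : ∀ x ∈ B, ∀ y ∈ B, x * y = y * x) {e : G} (he : orderOf e = p)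
    (hc : ∀ x ∈ B, x * e = e * x) (hn : e ∉ B) :
    ∃ A : Subgroup G, (∀ x ∈ A, ∀ y ∈ A, x * y = y * x) ∧ Nat.card A = Nat.card B * p ∧
      (∀ x, x ∈ A ↔ ∃ b ∈ B, ∃ k : ℤ, x = b * e ^ k) := by
  have hcomm : ∀ (b : B) (z : zpowers e), Commute (B.subtype b) ((zpowers e).subtype z) := by
    rintro ⟨b, hb⟩ ⟨_, k, rfl⟩
    exact (show Commute b e from hc b hb).zpow_right k
  let φ : B × zpowers e →* G := MonoidHom.noncommCoprod B.subtype (zpowers e).subtype hcomm
  have hφ : ∀ (b : B) (z : zpowers e), φ (b, z) = b * z := fun b z => rfl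
  have hdis : ∀ z : G, z ∈ zpowers e → z ∈ B → z = 1 := by
    intro z hz hzB
    by_contra h1
    apply hn
    have h2 : zpowers z = zpowers e := by
      apply Subgroup.eq_of_le_of_card_ge
      · rwa [zpowers_le]
      · rw [Nat.card_zpowers, Nat.card_zpowers, he]
        have h3 : orderOf z ∣ p := by rw [← he]; exact orderOf_dvd_of_mem_zpowers hz
        rcases (Nat.dvd_prime hp.out).1 h3 with h | h
        · exact absurd (orderOf_eq_one_iff.1 h) h1
        · rw [h]
    have h3 : e ∈ zpowers z := by rw [h2]; exact mem_zpowers e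
    exact (zpowers_le.2 hzB) h3
  have hinj : Function.Injective φ := by
    rw [injective_iff_map_eq_one]
    rintro ⟨b, z⟩ h
    rw [hφ] at h
    have h1 : (z : G) = (b : G)⁻¹ := by
      rw [eq_comm, inv_eq_iff_mul_eq_one]
      exact h
    have h2 : (z : G) = 1 := hdis z z.2 (by rw [h1]; exact B.inv_mem b.2)
    rw [h2, mul_one] at h
    exact Prod.ext (Subtype.ext h) (Subtype.ext h2)
  have hmem : ∀ x, x ∈ φ.range ↔ ∃ b ∈ B, ∃ k : ℤ, x = b * e ^ k := by
    intro x
    constructor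
    · rintro ⟨⟨b, z⟩, rfl⟩
      obtain ⟨k, hk⟩ := mem_zpowers_iff.1 z.2
      exact ⟨b, b.2, k, by rw [hφ, hk]⟩
    · rintro ⟨b, hb, k, rfl⟩
      exact ⟨(⟨b, hb⟩, ⟨e ^ k, k, rfl⟩), rfl⟩
  refine ⟨φ.range, ?_, ?_, hmem⟩
  · intro x hx y hy
    obtain ⟨b, hb, k, rfl⟩ := (hmem x).1 hx
    obtain ⟨c, hc', l, rfl⟩ := (hmem y).1 hy
    have h1 : Commute b (e ^ l) := (show Commute b e from hc b hb).zpow_right l
    have h2 : Commute c (e ^ k) := (show Commute c e from hc c hc').zpow_right k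
    have h3 : Commute (e ^ k) (e ^ l) := (Commute.refl e).zpow_zpow k l
    have h4 : Commute b c := hB b hb c hc'
    have h5 : Commute (b * e ^ k) (c * e ^ l) := (h4.mul_left h2.symm).mul_right (h1.mul_left h3)
    exact h5
  · rw [← Nat.card_congr (MonoidHom.ofInjective hinj).toEquiv, Nat.card_prod, Nat.card_zpowers, he]

end Tools

section Cube

variable {G : Type*} [Group G] [Finite G]

/-- no commutative subgroup has order divisible by `p ^ 3` -/
def NoAb (p : ℕ) (G : Type*) [Group G] : Prop :=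
  ∀ A : Subgroup G, (∀ x ∈ A, ∀ y ∈ A, x * y = y * x) → ¬ p ^ 3 ∣ Nat.card A

variable {p : ℕ} [hp : Fact p.Prime]

/-- **two commuting elements of order `p`** -/
theorem pair {c d : G} (hc : orderOf c = p) (hd : orderOf d = p) (h1 : c * d = d * c) (hn : d ∉ zpowers c) :
    ∃ A : Subgroup G, (∀ x ∈ A, ∀ y ∈ A, x * y = y * x) ∧ Nat.card A = p ^ 2 ∧
      (∀ x, x ∈ A ↔ ∃ i j : ℤ, x = c ^ i * d ^ j) := by
  obtain ⟨A, hA1, hA2, hA3⟩ := ext (B := zpowers c) (e := d) (p := p)
    (by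
      rintro _ ⟨i, rfl⟩ _ ⟨j, rfl⟩
      exact ((Commute.refl c).zpow_zpow i j).eq) hd
    (by
      rintro _ ⟨i, rfl⟩
      exact ((show Commute c d from h1).zpow_left i).eq) hn
  refine ⟨A, hA1, ?_, ?_⟩
  · rw [hA2, Nat.card_zpowers, hc, pow_two]
  · intro x
    rw [hA3]
    constructor
    · rintro ⟨_, ⟨i, rfl⟩, j, rfl⟩
      exact ⟨i, j, rfl⟩
    · rintro ⟨i, j, rfl⟩
      exact ⟨_, ⟨i, rfl⟩, j, rfl⟩

/-- **three commuting elements of order `p`** -/
theorem three (hna : NoAb p G) {c d e : G} (hc : orderOf c = p) (hd : orderOf d = p) (he : orderOf e = p)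
    (h1 : c * d = d * c) (h2 : c * e = e * c) (h3 : d * e = e * d) (hn : d ∉ zpowers c) :
    ∃ i j : ℤ, e = c ^ i * d ^ j := by
  obtain ⟨A, hA1, hA2, hA3⟩ := pair hc hd h1 hn
  rw [← hA3]
  by_contra hne
  obtain ⟨B, hB1, hB2, -⟩ := ext hA1 he
    (by
      intro x hx
      obtain ⟨i, j, rfl⟩ := (hA3 x).1 hx
      have h4 : Commute (c ^ i * d ^ j) e :=
        ((show Commute c e from h2).zpow_left i).mul_left ((show Commute d e from h3).zpow_left j)
      exact h4) hne
  apply hna B hB1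
  rw [hB2, hA2, ← pow_succ]

/-- **a nonabelian Sylow subgroup of order `p ^ 3`** -/
theorem exists_center (hna : NoAb p G) {P : Subgroup G} (hP : Nat.card P = p ^ 3) :
    ∃ w ∈ P, orderOf w = p ∧ (∀ g ∈ P, g * w = w * g) ∧
      (∀ g ∈ P, ∀ h ∈ P, ∃ k : ℤ, g * h * g⁻¹ = h * w ^ k) ∧
      ∀ h ∈ P, (∀ g ∈ P, g * h = h * g) → h ∈ zpowers w := by
  have hPp : IsPGroup p P := IsPGroup.of_card hP
  obtain ⟨k, hk0, hk⟩ := IsPGroup.card_center_eq_prime_pow hP (by norm_num)
  have hcm := (center P).card_mul_index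
  rw [hP, hk] at hcm
  have hk3 : k ≤ 3 := by
    have h1 : p ^ k ∣ p ^ 3 := ⟨_, hcm.symm⟩
    exact (Nat.pow_dvd_pow_iff_le_right hp.out.one_lt).1 h1
  -- `P` is not commutative
  have hnc : ¬ ∀ x y : P, x * y = y * x := by
    intro h
    apply hna P _ (by rw [hP])
    intro x hx y hy
    exact congrArg Subtype.val (h ⟨x, hx⟩ ⟨y, hy⟩)
  have hk1 : k = 1 := by
    by_contra hne
    rcases (show k = 2 ∨ k = 3 by omega) with rfl | rfl
    · apply hnc
      have h1 : (center P).index = p := by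
        have h2 : p ^ 2 * (center P).index = p ^ 2 * p := by rw [hcm]; ring
        exact Nat.eq_of_mul_eq_mul_left (pow_pos hp.out.pos 2) h2
      have h2 : IsCyclic (P ⧸ center P) := isCyclic_of_prime_card (p := p) h1
      have h3 := isMulCommutative_of_isCyclic_quotient_center_self P
      exact h3.is_comm.comm
    · apply hnc
      have h1 : center P = ⊤ := Subgroup.eq_top_of_card_eq _ (by rw [hk, hP])
      intro x y
      have h2 : x ∈ center P := by rw [h1]; exact mem_top x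
      exact (mem_center_iff.1 h2 y).symm
  subst hk1
  have hq : Nat.card (P ⧸ center P) = p ^ 2 := by
    have h2 : p ^ 1 * (center P).index = p ^ 1 * p ^ 2 := by rw [hcm]; ring
    exact Nat.eq_of_mul_eq_mul_left (pow_pos hp.out.pos 1) h2
  have hqc := (IsPGroup.isMulCommutative_of_card_eq_prime_sq hq).is_comm.comm
  rw [pow_one] at hk
  obtain ⟨z, hz⟩ := exists_prime_orderOf_dvd_card' (G := center P) p (by rw [hk])
  have hzo : orderOf ((z : P) : G) = p := by rw [Subgroup.orderOf_coe, Subgroup.orderOf_coe, hz]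
  refine ⟨(z : P), (z : P).2, hzo, ?_, ?_, ?_⟩
  · intro g hg
    exact congrArg Subtype.val (mem_center_iff.1 z.2 ⟨g, hg⟩)
  · intro g hg h hh
    have h1 : (⟨h, hh⟩ : P)⁻¹ * (⟨g, hg⟩ * ⟨h, hh⟩ * (⟨g, hg⟩ : P)⁻¹) ∈ center P := by
      rw [← QuotientGroup.eq_one_iff]
      rw [QuotientGroup.mk_mul, QuotientGroup.mk_mul, QuotientGroup.mk_mul, QuotientGroup.mk_inv,
        QuotientGroup.mk_inv, hqc (_ : P ⧸ center P) ((⟨h, hh⟩ : P) : P ⧸ center P)]
      group
    have h2 : zpowers z = ⊤ := by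
      apply Subgroup.eq_top_of_card_eq
      rw [Nat.card_zpowers, hz, hk]
    have h3 : (⟨_, h1⟩ : center P) ∈ zpowers z := by rw [h2]; exact mem_top _
    obtain ⟨m, hm⟩ := mem_zpowers_iff.1 h3
    refine ⟨m, ?_⟩
    have h4 : ((z : P) : G) ^ m = h⁻¹ * (g * h * g⁻¹) :=
      congrArg (fun t : center P => ((t : P) : G)) hm
    rw [h4]
    group
  · intro h hh hc
    have h1 : (⟨h, hh⟩ : P) ∈ center P := mem_center_iff.2 fun g => Subtype.ext (hc g g.2)
    have h2 : zpowers z = ⊤ := by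
      apply Subgroup.eq_top_of_card_eq
      rw [Nat.card_zpowers, hz, hk]
    have h3 : (⟨_, h1⟩ : center P) ∈ zpowers z := by rw [h2]; exact mem_top _
    obtain ⟨m, hm⟩ := mem_zpowers_iff.1 h3
    exact ⟨m, congrArg (fun t : center P => ((t : P) : G)) hm⟩

/-- conjugation by powers of `g` -/
theorem conj_pow_form {g h w : G} {k : ℤ} (hgh : g * h * g⁻¹ = h * w ^ k) (hgw : g * w = w * g) (hhw : h * w = w * h)
    (n : ℕ) (i : ℤ) : g ^ n * h ^ i * (g ^ n)⁻¹ = h ^ i * w ^ (n * i * k) := by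
  have h1 : ∀ n : ℕ, g ^ n * h * (g ^ n)⁻¹ = h * w ^ (n * k) := by
    intro n
    induction n with
    | zero => simp
    | succ n ih =>
      have h2 : Commute (g ^ n) (w ^ k) := ((show Commute g w from hgw).pow_left n).zpow_right k
      calc g ^ (n + 1) * h * (g ^ (n + 1))⁻¹ = g ^ n * (g * h * g⁻¹) * (g ^ n)⁻¹ := by
            rw [pow_succ]; group
        _ = g ^ n * h * (w ^ k * (g ^ n)⁻¹) := by rw [hgh]; group
        _ = g ^ n * h * ((g ^ n)⁻¹ * w ^ k) := by rw [(h2.inv_left).eq]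
        _ = (g ^ n * h * (g ^ n)⁻¹) * w ^ k := by group
        _ = h * (w ^ (n * k) * w ^ k) := by rw [ih, mul_assoc]
        _ = _ := by rw [← zpow_add]; push_cast; ring_nf
  have h3 : Commute h (w ^ (n * k : ℤ)) := (show Commute h w from hhw).zpow_right _
  rw [← conj_zpow, h1 n, h3.mul_zpow, ← zpow_mul]
  ring_nf

/-- the centralizer of a power -/
theorem comm_of_zpow {x m : G} (hx : orderOf x = p) {i : ℤ} (hi : ¬ (p : ℤ) ∣ i) (h : m * x ^ i = x ^ i * m) :
    m * x = x * m := by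
  have h1 : IsCoprime (p : ℤ) i := (Nat.prime_iff_prime_int.1 hp.out).coprime_iff_not_dvd.2 hi
  obtain ⟨a, b, hab⟩ := h1
  have h2 : x = (x ^ i) ^ b := by
    have h3 : x ^ (p : ℤ) = 1 := by rw [zpow_natCast, ← hx, pow_orderOf_eq_one]
    calc x = x ^ (1 : ℤ) := (zpow_one x).symm
      _ = x ^ (a * p + b * i) := by rw [hab]
      _ = (x ^ (p : ℤ)) ^ a * (x ^ i) ^ b := by rw [zpow_add, ← zpow_mul, ← zpow_mul, mul_comm a, mul_comm b]
      _ = (x ^ i) ^ b := by rw [h3, one_zpow, one_mul]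
  rw [h2]
  exact ((show Commute m (x ^ i) from h).zpow_right b).eq

theorem centralizer_zpow {x : G} (hx : orderOf x = p) {i : ℤ} (hi : ¬ (p : ℤ) ∣ i) :
    centralizer ({x ^ i} : Set G) = centralizer ({x} : Set G) := by
  ext m
  rw [mem_centralizer_singleton_iff, mem_centralizer_singleton_iff]
  exact ⟨comm_of_zpow hx hi, fun h => ((show Commute m x from h).zpow_right i).eq⟩

theorem card_centralizer_conj (u t : G) :
    Nat.card (centralizer ({u * t * u⁻¹} : Set G)) = Nat.card (centralizer ({t} : Set G)) := by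
  apply Nat.card_congr
  refine
    { toFun := fun c => ⟨u⁻¹ * c * u, ?_⟩
      invFun := fun c => ⟨u * c * u⁻¹, ?_⟩
      left_inv := fun c => Subtype.ext (by show u * (u⁻¹ * (c : G) * u) * u⁻¹ = c; group)
      right_inv := fun c => Subtype.ext (by show u⁻¹ * (u * (c : G) * u⁻¹) * u = c; group) }
  · have h := mem_centralizer_singleton_iff.1 c.2
    rw [mem_centralizer_singleton_iff]
    calc u⁻¹ * (c : G) * u * t = u⁻¹ * (c * (u * t * u⁻¹)) * u := by group
      _ = u⁻¹ * ((u * t * u⁻¹) * c) * u := by rw [h]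
      _ = _ := by group
  · have h := mem_centralizer_singleton_iff.1 c.2
    rw [mem_centralizer_singleton_iff]
    calc u * (c : G) * u⁻¹ * (u * t * u⁻¹) = u * (c * t) * u⁻¹ := by group
      _ = u * (t * c) * u⁻¹ := by rw [h]
      _ = _ := by group

/-- **the key step**: an element `x` of `P` not commuting with `P` is conjugate to all the `x w ^ j` -/
theorem exists_conj_of {P : Subgroup G} {w : G} (hw : orderOf w = p) (hwP : ∀ g ∈ P, g * w = w * g)
    (hc : ∀ g ∈ P, ∀ h ∈ P, ∃ k : ℤ, g * h * g⁻¹ = h * w ^ k) {x : G} (hxP : x ∈ P)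
    (hx : ¬ ∀ g ∈ P, g * x = x * g) {i : ℤ} (hi : ¬ (p : ℤ) ∣ i) (j : ℤ) :
    ∃ g ∈ P, g * x ^ i * g⁻¹ = x ^ i * w ^ j := by
  push Not at hx
  obtain ⟨g, hg, hgx⟩ := hx
  obtain ⟨k, hk⟩ := hc g hg x hxP
  have hk0 : ¬ (p : ℤ) ∣ k := by
    intro h
    apply hgx
    rw [(orderOf_dvd_iff_zpow_eq_one (x := w)).1 (by rw [hw]; exact h), mul_one] at hk
    exact mul_inv_eq_iff_eq_mul.1 hk
  have hpi := Nat.prime_iff_prime_int.1 hp.out
  have h1 : IsCoprime (p : ℤ) (i * k) := hpi.coprime_iff_not_dvd.2 fun h => (hpi.dvd_or_dvd h).elim hi hk0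
  obtain ⟨a, b, hab⟩ := h1
  -- `n = b j` modulo `p`
  have hp0 : (p : ℤ) ≠ 0 := by exact_mod_cast hp.out.ne_zero
  obtain ⟨n, hn⟩ : ∃ n : ℕ, (n : ℤ) = b * j % p := ⟨(b * j % p).toNat, Int.toNat_of_nonneg (Int.emod_nonneg _ hp0)⟩
  refine ⟨g ^ n, P.pow_mem hg n, ?_⟩
  rw [conj_pow_form hk (hwP g hg) (hwP x hxP) n i]
  congr 1
  rw [zpow_eq_zpow_iff_modEq, hw]
  have h2 : (n : ℤ) ≡ b * j [ZMOD p] := by rw [hn]; exact Int.mod_modEq _ _
  have h3 : b * j * i * k ≡ j [ZMOD p] := by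
    have h4 : b * j * i * k = j - p * (a * j) := by
      have h5 : b * (i * k) = 1 - a * p := by linarith
      calc b * j * i * k = b * (i * k) * j := by ring
        _ = (1 - a * p) * j := by rw [h5]
        _ = _ := by ring
    rw [h4]
    exact (Int.modEq_iff_dvd.2 ⟨a * j, by ring⟩)
  exact (Int.ModEq.mul_right k (Int.ModEq.mul_right i h2)).trans h3

/-- the order of a Sylow subgroup -/
theorem card_sylow (h3 : p ^ 3 ∣ Nat.card G) (h4 : ¬ p ^ 4 ∣ Nat.card G) (P : Sylow p G) : Nat.card P = p ^ 3 := by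
  obtain ⟨k, hk⟩ := (IsPGroup.iff_card).1 P.isPGroup'
  have h1 : p ^ 3 ∣ Nat.card P := P.pow_dvd_card_of_pow_dvd_card h3
  have h2 : p ^ k ∣ Nat.card G := hk ▸ Subgroup.card_subgroup_dvd_card _
  have h5 : k < 4 := by
    by_contra h
    exact h4 ((pow_dvd_pow p (by omega : 4 ≤ k)).trans h2)
  rw [hk] at h1 ⊢
  have h6 : 3 ≤ k := (Nat.pow_dvd_pow_iff_le_right hp.out.one_lt).1 h1
  have h7 : k = 3 := by omega
  rw [h7]

/-- the Sylow subgroups are not abelian -/
theorem noAb_of (h4 : ¬ p ^ 4 ∣ Nat.card G) {x : G} (hx : orderOf x = p)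
    (hc : ¬ p ^ 3 ∣ Nat.card (centralizer ({x} : Set G))) : NoAb p G := by
  intro A hA hd
  obtain ⟨Q⟩ : Nonempty (Sylow p A) := inferInstance
  have hQ : p ^ 3 ∣ Nat.card Q := Q.pow_dvd_card_of_pow_dvd_card hd
  have hQ' : IsPGroup p ((Q : Subgroup A).map A.subtype) := Q.isPGroup'.map A.subtype
  have hcard : Nat.card ((Q : Subgroup A).map A.subtype) = Nat.card Q := Subgroup.card_map_of_injective A.subtype_injective
  obtain ⟨R, hR⟩ := hQ'.exists_le_sylow
  have h3 : p ^ 3 ∣ Nat.card G := hd.trans (Subgroup.card_subgroup_dvd_card A)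
  have hRc := card_sylow h3 h4 R
  have hRQ : (Q : Subgroup A).map A.subtype = (R : Subgroup G) := by
    apply Subgroup.eq_of_le_of_card_ge hR
    rw [hcard, hRc]
    exact Nat.le_of_dvd Nat.card_pos hQ
  have hRA : (R : Subgroup G) ≤ A := by
    rw [← hRQ]
    rintro _ ⟨y, -, rfl⟩
    exact y.2
  have hxp : IsPGroup p (zpowers x) := IsPGroup.of_card (n := 1) (by rw [Nat.card_zpowers, hx, pow_one])
  obtain ⟨P, hxP'⟩ := hxp.exists_le_sylow
  have hxP : x ∈ (P : Subgroup G) := hxP' (mem_zpowers x)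
  obtain ⟨g, hg⟩ := MulAction.exists_smul_eq G P R
  have hgx : g * x * g⁻¹ ∈ (R : Subgroup G) := by
    rw [← hg, Sylow.coe_subgroup_smul]
    exact ⟨x, hxP, rfl⟩
  apply hc
  rw [← card_centralizer_conj g x, ← hRc]
  apply Subgroup.card_dvd_of_le
  intro y hy
  exact mem_centralizer_singleton_iff.2 (hA y (hRA hy) _ (hRA hgx))

/-- the centralizer of an element of order `p` -/
theorem sq_dvd_cent (hna : NoAb p G) (h3 : p ^ 3 ∣ Nat.card G) (h4 : ¬ p ^ 4 ∣ Nat.card G) {x : G}
    (hx : orderOf x = p) : p ^ 2 ∣ Nat.card (centralizer ({x} : Set G)) := by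
  have hxp : IsPGroup p (zpowers x) := IsPGroup.of_card (n := 1) (by rw [Nat.card_zpowers, hx, pow_one])
  obtain ⟨P, hxP'⟩ := hxp.exists_le_sylow
  have hxP : x ∈ (P : Subgroup G) := hxP' (mem_zpowers x)
  obtain ⟨w, hwP, hw, hwc, hPc, hPz⟩ := exists_center hna (card_sylow h3 h4 P)
  by_cases hxc : ∀ g ∈ (P : Subgroup G), g * x = x * g
  · have h1 : (P : Subgroup G) ≤ centralizer ({x} : Set G) := fun g hg => mem_centralizer_singleton_iff.2 (hxc g hg)
    have h2 := Subgroup.card_dvd_of_le h1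
    rw [card_sylow h3 h4 P] at h2
    exact (pow_dvd_pow p (by norm_num)).trans h2
  · have h1 : x ∉ zpowers w := by
      rintro ⟨i, hi⟩
      apply hxc
      intro g hg
      have h2 : w ^ i = x := hi
      rw [← h2]
      exact ((show Commute g w from hwc g hg).zpow_right i).eq
    obtain ⟨A, hA1, hA2, hA3⟩ := pair hw hx (hwc x hxP).symm h1
    have hxA : x ∈ A := (hA3 x).2 ⟨0, 1, by simp⟩
    rw [← hA2]
    apply Subgroup.card_dvd_of_le
    intro y hy
    exact mem_centralizer_singleton_iff.2 (hA1 y hy x hxA)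

/-- centralizers in subgroups -/
theorem card_centralizer_dvd (H : Subgroup G) (x : H) :
    Nat.card (centralizer ({x} : Set H)) ∣ Nat.card (centralizer ({(x : G)} : Set G)) := by
  have h1 : Nat.card ((centralizer ({x} : Set H)).map H.subtype) = Nat.card (centralizer ({x} : Set H)) :=
    Subgroup.card_map_of_injective H.subtype_injective
  rw [← h1]
  apply Subgroup.card_dvd_of_le
  rintro _ ⟨y, hy, rfl⟩
  exact mem_centralizer_singleton_iff.2 (congrArg Subtype.val (mem_centralizer_singleton_iff.1 hy))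

theorem NoAb.subgroup (h : NoAb p G) (H : Subgroup G) : NoAb p H := by
  intro A hA hd
  have h1 : Nat.card (A.map H.subtype) = Nat.card A := Subgroup.card_map_of_injective H.subtype_injective
  refine h (A.map H.subtype) ?_ (by rw [h1]; exact hd)
  rintro _ ⟨x, hx, rfl⟩ _ ⟨y, hy, rfl⟩
  exact congrArg Subtype.val (hA x hx y hy)

end Cube

end Cfsg.Agent.H725.CovHe
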